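import Mathlib
import Cfsg.Agent.Lib.FRam.Soc
import Cfsg.Agent.Lib.GL.SylowSL2
import Cfsg.Agent.Lib.SL2Elt.Sylow
import Cfsg.Agent.Lib.Zsig.Basic
import Cfsg.Agent.Lib.Invol.Count
import Cfsg.Agent.Lib.J1.Basic
import Cfsg.Agent.S0813
import Cfsg.Agent.S2119
import Cfsg.Agent.S2065

/-! A good prime for `L₂(q)`, `A₇` and `J₁`. -/

set_option autoImplicit false
set_option linter.unusedSectionVars false
set_option linter.unusedVariables false

namespace H50.FRam

open Subgroup Cfsg H68 H64.SL2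
open scoped MatrixGroups Pointwise

variable {S : Type*} [Group S] [Finite S]

theorem card_aut [IsSimpleGroup S] (hn : ¬ IsMulCommutative S) :
    Nat.card (MulAut S) = Nat.card S * (Inn S).index := by
  rw [← (Inn S).card_mul_index, ← Nat.card_congr (MonoidHom.ofInjective (f := (MulAut.conj : S →* MulAut S)) ?_).toEquiv]
  refine (MonoidHom.ker_eq_bot_iff _).1 (((MonoidHom.normal_ker _).eq_bot_or_eq_top).resolve_right fun e =>
    hn ⟨⟨fun a b => ?_⟩⟩)
  exact mul_inv_eq_iff_eq_mul.1 (DFunLike.congr_fun (MonoidHom.mem_ker.1 (e ▸ mem_top a)) b)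

theorem inn_of {p : ℕ} (pp : p.Prime) (h : ¬ p ∣ (Inn S).index) (α : MulAut S) (hα : ∃ k, α ^ p ^ k = 1) :
    ∃ c, α = MulAut.conj c := by
  obtain ⟨k, hk⟩ := hα
  obtain ⟨m, hm⟩ := exists_pow_eq_self_of_coprime (x := α) (n := (Inn S).index)
    (((Nat.Prime.coprime_iff_not_dvd pp).2 h).symm.pow_right k |>.coprime_dvd_right (orderOf_dvd_of_pow_eq_one hk))
  obtain ⟨c, hc⟩ : α ∈ Inn S := hm ▸ pow_mem ((Inn S).pow_index_mem α) m
  exact ⟨c, hc.symm⟩

theorem Pr.of_sq [IsSimpleGroup S] {p : ℕ} (pp : p.Prime) (h1 : p ∣ Nat.card S) (h2 : ¬ p ^ 2 ∣ Nat.card S)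
    (h3 : ¬ p ∣ (Inn S).index) (h4 : ¬ Nat.card S ∣ p.factorial) : Pr p S where
  dvd := h1
  cyc R hR := by
    have := Fact.mk pp
    obtain ⟨k, hk⟩ := hR.exists_card_eq
    refine isCyclic_of_card_dvd_prime (p := p) ?_
    rw [hk]
    rcases k with _ | _ | k
    · simp
    · simp
    · exact absurd ((pow_dvd_pow p (by omega)).trans (hk ▸ card_subgroup_dvd_card R)) h2
  inn := inn_of pp h3
  idx M := fun ⟨j, hj⟩ => by
    rcases j with _ | _ | j
    · exact index_eq_one.1 hj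
    · by_contra e
      exact h4 (by simpa [hj] using H9.card_dvd_factorial_index_of_simple e)
    · exact absurd ((pow_dvd_pow p (by omega)).trans (hj ▸ index_dvd_card M)) h2

theorem pr_alt : Pr 5 (alternatingGroup (Fin 7)) := by
  have c : Nat.card (alternatingGroup (Fin 7)) = 2520 := by
    have := two_mul_nat_card_alternatingGroup (α := Fin 7)
    rw [Nat.card_perm, Nat.card_fin, show Nat.factorial 7 = 5040 from rfl] at this
    omega
  have s : IsSimpleGroup (alternatingGroup (Fin 7)) := alternatingGroup.isSimpleGroup (by simp)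
  have a := card_aut (S := alternatingGroup (Fin 7)) fun h => by
    let _ : CommGroup (alternatingGroup (Fin 7)) := { mul_comm := h.is_comm.comm }
    have := IsSimpleGroup.prime_card (α := alternatingGroup (Fin 7))
    rw [c] at this
    norm_num at this
  rw [← Nat.card_congr (Equiv.ofBijective _ (Cfsg.Agent.S2119.result 7 (by norm_num) (by norm_num))), c,
    Nat.card_perm, Nat.card_fin, show Nat.factorial 7 = 5040 from rfl] at a
  refine .of_sq (by norm_num) ?_ ?_ (by omega) ?_ <;> rw [c] <;> decide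

theorem pr_J1 : Pr 7 Spor.J1 := by
  have s := H15.J1M.isSimple_J1
  refine .of_sq (by norm_num) ?_ ?_ ?_ ?_
  · rw [H15.J1M.card_J1]; decide
  · rw [H15.J1M.card_J1]; decide
  · rw [index, Cfsg.Agent.S2065.result]; decide
  · rw [H15.J1M.card_J1]; decide

theorem exists_prime {r f : ℕ} (hr : r.Prime) (hq : 3 < r ^ f) :
    ∃ p, p.Prime ∧ p ≠ 2 ∧ p ∣ (r ^ f - 1) * (r ^ f + 1) ∧ ¬ p ∣ f ∧ ∀ j, ¬ r ^ f + 1 ∣ p ^ j := by
  have f0 : f ≠ 0 := by rintro rfl; simp at hq
  rcases hr.eq_two_or_odd' with rfl | ho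
  · have o : Odd (2 ^ f - 1) := (Nat.odd_sub (Nat.one_le_two_pow)).2 (by simp [Nat.even_pow, f0])
    obtain ⟨p, pp, h1, h2⟩ : ∃ p, p.Prime ∧ p ∣ 2 ^ f - 1 ∧ ¬ p ∣ f := by
      by_cases h6 : f = 6
      · exact ⟨7, by norm_num, by rw [h6]; decide, by rw [h6]; decide⟩
      obtain ⟨p, pp, h1, h2⟩ := H69.Zsig.exists_prime_not_dvd (a := 2) (n := f) (by norm_num)
        (by by_contra! e; interval_cases f <;> simp_all) (by simpa using h6) (by
          rintro ⟨-, m, hm⟩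
          rcases m with _ | _ | m <;> simp [pow_succ] at hm; omega)
      exact ⟨p, pp, h1.trans (H69.Zsig.cv_dvd (by norm_num) f), h2⟩
    have p2 : p ≠ 2 := by rintro rfl; exact (Nat.not_even_iff_odd.2 o) (even_iff_two_dvd.2 h1)
    refine ⟨p, pp, p2, h1.mul_right _, h2, fun j hj => p2 ?_⟩
    obtain ⟨i, -, hi⟩ := (Nat.dvd_prime_pow pp).1 hj
    have : p ∣ 2 ^ f + 1 := hi ▸ dvd_pow_self p (by rintro rfl; simp at hi)
    have := Nat.dvd_sub this h1
    rw [show 2 ^ f + 1 - (2 ^ f - 1) = 2 by omega] at this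
    exact (Nat.prime_dvd_prime_iff_eq pp Nat.prime_two).1 this
  have ev : 2 ∣ r ^ f + 1 := (ho.pow.add_one).two_dvd
  suffices ∃ p, p.Prime ∧ p ≠ 2 ∧ p ∣ (r ^ f - 1) * (r ^ f + 1) ∧ ¬ p ∣ f by
    obtain ⟨p, pp, p2, h1, h2⟩ := this
    exact ⟨p, pp, p2, h1, h2, fun j hj =>
      p2 (Nat.prime_eq_prime_of_dvd_pow Nat.prime_two pp (ev.trans hj)).symm⟩
  obtain ⟨p, pp, h1, h2⟩ : ∃ p, p.Prime ∧ p ∣ r ^ (2 * f) - 1 ∧ ¬ p ∣ 2 * f := by
    by_cases h : 2 * f = 2 ∧ ∃ m, r + 1 = 2 ^ m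
    · obtain ⟨h, m, hm⟩ := h
      obtain rfl : f = 1 := by omega
      rw [pow_one] at hq
      obtain ⟨k, rfl⟩ : ∃ k, m = k + 2 := ⟨m - 2, by
        by_contra! e
        have : m < 2 := by omega
        interval_cases m <;> omega⟩
      obtain ⟨p, pp, hp⟩ := Nat.exists_prime_and_dvd (n := 2 * 2 ^ k - 1) (by rw [pow_add] at hm; omega)
      refine ⟨p, pp, hp.trans ⟨2 * (r + 1), ?_⟩, fun e => ?_⟩
      · rw [pow_add] at hm
        have : r = 2 * (2 * 2 ^ k - 1) + 1 := by omega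
        generalize 2 * 2 ^ k - 1 = x at this
        rw [this]
        exact (Nat.sub_eq_of_eq_add (by ring))
      · rw [(Nat.prime_dvd_prime_iff_eq pp Nat.prime_two).1 e] at hp
        have := Nat.two_pow_pos k
        omega
    obtain ⟨p, pp, h1, h2⟩ := H69.Zsig.exists_prime_not_dvd (a := r) (n := 2 * f) hr.one_lt (by omega)
      (by rintro ⟨rfl, -⟩; exact absurd ho (by decide)) h
    exact ⟨p, pp, h1.trans (H69.Zsig.cv_dvd hr.one_lt _), h2⟩
  refine ⟨p, pp, by rintro rfl; simp at h2, ?_, fun e => h2 (e.mul_left 2)⟩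
  rwa [mul_comm (r ^ f - 1), ← Nat.sq_sub_sq, one_pow, ← pow_mul, mul_comm f]

theorem pr_psl {F : Type} [Field F] [Fintype F] (h3 : 3 < Fintype.card F) [IsSimpleGroup PSL(2, F)]
    (hn : ¬ IsMulCommutative PSL(2, F)) : ∃ p, p.Prime ∧ p ≠ 2 ∧ Pr p PSL(2, F) := by
  obtain ⟨r, _, f, hr, hq⟩ := FiniteField.card' F
  have := Fact.mk hr
  obtain ⟨p, pp, p2, h1, h2, h4⟩ := exists_prime hr (hq ▸ h3)
  have := Fact.mk pp
  have c := H10.card_PSL_two (F := F)
  have a := card_aut hn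
  rw [Cfsg.Agent.S0813.result r f f.2 hq 2 le_rfl (fun _ => hq ▸ h3), H10.card_PGL_two, ← c, if_pos rfl, one_mul,
    ← mul_assoc, mul_comm, Nat.mul_left_cancel_iff Nat.card_pos] at a
  rw [← hq, ← Nat.card_eq_fintype_card] at h1 h4
  have g : ¬ p ∣ Nat.gcd 2 (Nat.card F - 1) := fun e =>
    p2 ((Nat.prime_dvd_prime_iff_eq pp Nat.prime_two).1 (e.trans (Nat.gcd_dvd_left _ _)))
  have pr : p ≠ r := by
    rintro rfl
    have d : p ∣ Nat.card F := by rw [Nat.card_eq_fintype_card, hq]; exact dvd_pow_self p f.ne_zero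
    rcases (Nat.Prime.dvd_mul pp).1 h1 with e | e
    · have := Nat.dvd_sub d e
      rw [Nat.sub_sub_self Nat.card_pos] at this
      exact pp.not_dvd_one this
    · exact pp.not_dvd_one ((Nat.dvd_add_right d).1 e)
  refine ⟨p, pp, p2, ((Nat.Prime.dvd_mul pp).1 (c ▸ mul_assoc (Nat.card F) _ _ ▸ h1.mul_left _)).resolve_left g,
    fun R hR => ?_, inn_of pp fun e => ((Nat.Prime.dvd_mul pp).1 (a ▸ e)).elim h2 g, fun M ⟨j, hj⟩ => ?_⟩
  · obtain ⟨T, hT⟩ := exists_sylowIn p (R.comap proj)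
    have e := hT.map proj
    rw [map_comap_eq_self_of_surjective proj_surjective] at e
    rw [e.eq_of_le hR e.le le_rfl]
    have := H10.isCyclic_of_isPGroup_SL_two r p p2 pr T hT.isPGroup
    exact isCyclic_of_surjective _ (proj.subgroupMap_surjective T)
  rw [← index_comap_of_surjective _ proj_surjective] at hj
  refine comap_injective proj_surjective (?_ : _ = ⊤)
  generalize M.comap proj = M at hj
  obtain ⟨T, hT⟩ := exists_sylowIn r M
  obtain ⟨P, rfl⟩ := (sylowIn_of_not_dvd_relIndex hT.isPGroup le_top (by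
    rw [relIndex_top_right, ← relIndex_mul_index hT.le, hj]
    exact fun e => ((Nat.Prime.dvd_mul hr).1 e).elim hT.not_dvd_relIndex fun e =>
      pr (Nat.prime_eq_prime_of_dvd_pow hr pp e).symm)).exists_sylow_top
  by_cases hM : ∀ m ∈ M, m • P = P
  · refine absurd ?_ (h4 j)
    rw [← H10.card_sylow_char_SL_two r, P.card_eq_index_normalizer, ← hj]
    exact index_dvd_of_le fun m hm => Sylow.smul_eq_iff_mem_normalizer.1 (hM m hm)
  push Not at hM
  obtain ⟨m, hm, ne⟩ := hM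
  rw [eq_top_iff, ← H10.sylow_char_SL_two_sup r _ _ ne]
  refine sup_le ?_ hT.le
  rintro _ ⟨x, hx, rfl⟩
  exact mul_mem (mul_mem hm (hT.le hx)) (inv_mem hm)

end H50.FRam
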